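import Mathlib

set_option autoImplicit false

/-! A bound for the order of the centralizer of an element of a transitive permutation group from
the number of its fixed points and the number of its conjugates in a point stabilizer, and
centralizers under isomorphisms and in subgroups. -/

namespace Cfsg.Agent.Helper9.HeC

open MulAction

/-- the order of the centralizer of an element `z` of a transitive group, times the degree, times
the number of conjugates of `z` fixing a given point, is at most the order of the group times the
number of fixed points of `z`. -/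
theorem card_centralizer_mul_le {G Ω : Type*} [Group G] [Finite G] [Fintype Ω] [DecidableEq Ω]
    [MulAction G Ω] [IsPretransitive G Ω] (z : G) (p : Ω) (f a : ℕ)
    (hf : (Finset.univ.filter fun q : Ω => z • q = q).card ≤ f)
    (c : ℕ → G) (hc : ∀ i < a, ∃ g : G, c i = g * z * g⁻¹) (hp : ∀ i < a, c i • p = p)
    (hinj : ∀ i < a, ∀ j < a, c i = c j → i = j) :
    Nat.card (Subgroup.centralizer ({z} : Set G)) * (a * Fintype.card Ω) ≤ Nat.card G * f := by
  classical
  have : Fintype G := Fintype.ofFinite G
  let K : Finset G := Finset.univ.filter fun x => ∃ g : G, x = g * z * g⁻¹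
  -- the number of fixed points is invariant under conjugation
  have h1 : ∀ x ∈ K, (Finset.univ.filter fun q : Ω => x • q = q).card ≤ f := by
    intro x hx
    obtain ⟨g, rfl⟩ := (Finset.mem_filter.mp hx).2
    refine le_trans ?_ hf
    refine Finset.card_le_card_of_injOn (fun q => g⁻¹ • q) ?_ ?_
    · intro q hq
      have hq' : (g * z * g⁻¹) • q = q := (Finset.mem_filter.mp (Finset.mem_coe.mp hq)).2
      apply Finset.mem_coe.mpr
      apply Finset.mem_filter.mpr
      refine ⟨Finset.mem_univ _, ?_⟩
      calc z • g⁻¹ • q = g⁻¹ • ((g * z * g⁻¹) • q) := by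
            simp only [mul_smul, inv_smul_smul]
        _ = g⁻¹ • q := by rw [hq']
    · intro q _ q' _ h
      exact smul_left_cancel g⁻¹ h
  -- each point is fixed by many conjugates
  have h2 : ∀ q : Ω, a ≤ (K.filter fun x => x • q = q).card := by
    intro q
    obtain ⟨g, hg⟩ := exists_smul_eq G p q
    have : (Finset.range a).card ≤ (K.filter fun x => x • q = q).card := by
      refine Finset.card_le_card_of_injOn (fun i => g * c i * g⁻¹) ?_ ?_
      · intro i hi
        have hi' : i < a := Finset.mem_range.mp (Finset.mem_coe.mp hi)
        apply Finset.mem_coe.mpr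
        apply Finset.mem_filter.mpr
        constructor
        · apply Finset.mem_filter.mpr
          refine ⟨Finset.mem_univ _, ?_⟩
          obtain ⟨k, hk⟩ := hc i hi'
          refine ⟨g * k, ?_⟩
          change g * c i * g⁻¹ = g * k * z * (g * k)⁻¹
          rw [hk]
          group
        · rw [← hg]
          simp only [mul_smul, inv_smul_smul]
          rw [hp i hi']
      · intro i hi j hj h
        have hi' : i < a := Finset.mem_range.mp (Finset.mem_coe.mp hi)
        have hj' : j < a := Finset.mem_range.mp (Finset.mem_coe.mp hj)
        apply hinj i hi' j hj'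
        have h' : g * c i * g⁻¹ = g * c j * g⁻¹ := h
        exact mul_left_cancel (mul_right_cancel h')
    rwa [Finset.card_range] at this
  -- double counting
  have h3 := Finset.sum_card_bipartiteAbove_eq_sum_card_bipartiteBelow (s := K)
    (t := (Finset.univ : Finset Ω)) (fun (x : G) (q : Ω) => x • q = q)
  have h4 : a * Fintype.card Ω ≤ K.card * f := by
    calc a * Fintype.card Ω = ∑ _q : Ω, a := by
          rw [Finset.sum_const, Finset.card_univ, smul_eq_mul, mul_comm]
      _ ≤ ∑ q : Ω, (K.filter fun x => x • q = q).card := Finset.sum_le_sum fun q _ => h2 q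
      _ = ∑ x ∈ K, (Finset.univ.filter fun q : Ω => x • q = q).card := h3.symm
      _ ≤ ∑ _x ∈ K, f := Finset.sum_le_sum h1
      _ = K.card * f := by rw [Finset.sum_const, smul_eq_mul]
  -- the number of conjugates
  have h5 : K.card * Nat.card (Subgroup.centralizer ({z} : Set G)) = Nat.card G := by
    rw [Subgroup.nat_card_centralizer_nat_card_stabilizer, Nat.card_eq_fintype_card,
      Nat.card_eq_fintype_card]
    have h6 := MulAction.card_orbit_mul_card_stabilizer_eq_card_group (ConjAct G) z
    have h7 : Fintype.card (ConjAct G) = Fintype.card G := rfl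
    rw [h7] at h6
    rw [← h6]
    congr 1
    rw [← Set.toFinset_card]
    congr 1
    ext x
    rw [Set.mem_toFinset, ConjAct.mem_orbit_conjAct, Finset.mem_filter, isConj_comm, isConj_iff]
    constructor
    · rintro ⟨-, g, hg⟩
      exact ⟨g, hg.symm⟩
    · rintro ⟨g, hg⟩
      exact ⟨Finset.mem_univ _, g, hg.symm⟩
  calc Nat.card (Subgroup.centralizer ({z} : Set G)) * (a * Fintype.card Ω)
      ≤ Nat.card (Subgroup.centralizer ({z} : Set G)) * (K.card * f) :=
        Nat.mul_le_mul_left _ h4
    _ = Nat.card G * f := by rw [← h5]; ring

/-- the centralizers of corresponding elements under an isomorphism are isomorphic. -/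
noncomputable def centralizerCongr {G G' : Type*} [Group G] [Group G'] (e : G ≃* G') (z : G) :
    ↥(Subgroup.centralizer ({z} : Set G)) ≃* ↥(Subgroup.centralizer ({e z} : Set G')) where
  toFun x := ⟨e x, by
    have hx := Subgroup.mem_centralizer_singleton_iff.mp x.2
    apply Subgroup.mem_centralizer_singleton_iff.mpr
    rw [← map_mul, ← map_mul, hx]⟩
  invFun y := ⟨e.symm y, by
    have hy := Subgroup.mem_centralizer_singleton_iff.mp y.2
    apply Subgroup.mem_centralizer_singleton_iff.mpr
    apply e.injective
    rw [map_mul, map_mul, e.apply_symm_apply, hy]⟩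
  left_inv x := Subtype.ext (e.symm_apply_apply _)
  right_inv y := Subtype.ext (e.apply_symm_apply _)
  map_mul' x y := Subtype.ext (map_mul e _ _)

/-- the centralizer of an element in a subgroup is the intersection of the subgroup with the
centralizer in the group. -/
noncomputable def centralizerSubgroup {G : Type*} [Group G] (H : Subgroup G) (z : G) (hz : z ∈ H) :
    ↥(Subgroup.centralizer ({(⟨z, hz⟩ : ↥H)} : Set ↥H)) ≃*
      ↥(H ⊓ Subgroup.centralizer ({z} : Set G)) where
  toFun x := ⟨x.1.1, by
    refine ⟨x.1.2, ?_⟩
    have hx := Subgroup.mem_centralizer_singleton_iff.mp x.2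
    apply Subgroup.mem_centralizer_singleton_iff.mpr
    exact congrArg Subtype.val hx⟩
  invFun y := ⟨⟨y.1, y.2.1⟩, by
    have hy := Subgroup.mem_centralizer_singleton_iff.mp y.2.2
    apply Subgroup.mem_centralizer_singleton_iff.mpr
    exact Subtype.ext hy⟩
  left_inv _ := rfl
  right_inv _ := rfl
  map_mul' _ _ := rfl

end Cfsg.Agent.Helper9.HeC
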