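import Mathlib
import Cfsg.Agent.Helper9.He.Perms

set_option autoImplicit false

/-! Permutations of 2058 points from packed tables: a table all of whose values are below the
degree and cover the points is a permutation; checks of products of tables, as the kernel
computes them. -/

namespace Cfsg.Agent.Helper9.HeC

open Cfsg.Agent.Helper9.J3 Cfsg.Agent.Helper9.He

/-- the entry of a list, as the kernel computes it. -/
def nthL (l : List ℕ) (i : ℕ) : ℕ :=
  List.rec (motive := fun _ => ℕ → ℕ) (fun _ => 0)
    (fun a _ ih i => Nat.rec a (fun i' _ => ih i') i) l i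

/-- the disjunction. -/
def orB (a b : Bool) : Bool := Bool.rec b true a

theorem orB_true {a b : Bool} (h : orB a b = true) : a = true ∨ b = true := by
  cases a
  · exact Or.inr h
  · exact Or.inl rfl

/-- the negation. -/
def notB (a : Bool) : Bool := Bool.rec true false a

theorem notB_true {a : Bool} (h : notB a = true) : a = false := by
  cases a
  · rfl
  · exact absurd h Bool.false_ne_true

/-- the mask of all points. -/
def fullM : ℕ := 2 ^ nP - 1

/-- a table whose values form the mask of all points has values below the degree and covers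
the points. -/
theorem spec_of_mask' {f : ℕ → ℕ} {n : ℕ} (h : maskF f n = 2 ^ n - 1) :
    (∀ x, x < n → f x < n) ∧ ∀ y, y < n → ∃ x, x < n ∧ f x = y := by
  have key : ∀ i, (∃ j, j < n ∧ f j = i) ↔ i < n := by
    intro i
    have h1 := testBit_maskF f n i
    rw [h, Nat.testBit_two_pow_sub_one] at h1
    exact (decide_eq_decide.1 h1).symm
  constructor
  · intro x hx
    exact (key (f x)).1 ⟨x, hx, rfl⟩
  · intro y hy
    exact (key y).2 hy

theorem spec_of_mask {f : ℕ → ℕ} (h : maskF f nP = fullM) :
    (∀ x, x < nP → f x < nP) ∧ ∀ y, y < nP → ∃ x, x < nP ∧ f x = y :=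
  spec_of_mask' h

/-- the permutation of a table. -/
noncomputable def permOf (f : ℕ → ℕ) : Equiv.Perm (Fin nP) :=
  if h : maskF f nP = fullM then
    Equiv.ofBijective (fun x : Fin nP => (⟨f x.val, (spec_of_mask h).1 x.val x.isLt⟩ : Fin nP))
      (Finite.surjective_iff_bijective.mp (fun y => by
        obtain ⟨x, hx, hxy⟩ := (spec_of_mask h).2 y.val y.isLt
        exact ⟨⟨x, hx⟩, Fin.ext hxy⟩))
  else 1

theorem permOf_apply {f : ℕ → ℕ} (h : maskF f nP = fullM) (x : Fin nP) :
    (permOf f x).val = f x.val := by
  unfold permOf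
  rw [dif_pos h]
  rfl

theorem perm_ext {σ τ : Equiv.Perm (Fin nP)} (h : ∀ x : Fin nP, (σ x).val = (τ x).val) : σ = τ :=
  Equiv.ext fun x => Fin.ext (h x)

/-- the check that a table has values below the degree and covers the points. -/
def chkPerm (T : ℕ) : Bool := sapp (fun T => Nat.beq (maskF (lk12 T) nP) fullM) T

theorem chkPerm_true {T : ℕ} (h : chkPerm T = true) : maskF (lk12 T) nP = fullM := by
  unfold chkPerm at h
  rw [sapp_eq] at h
  exact Nat.eq_of_beq_eq_true h

/-- the check that a table is the composition of two tables. -/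
def chkMul (N A B : ℕ) : Bool :=
  sapp (fun N => sapp (fun A => sapp (fun B =>
    allB (fun x => Nat.beq (lk12 N x) (sapp (lk12 A) (lk12 B x))) nP) B) A) N

theorem chkMul_true {N A B : ℕ} (h : chkMul N A B = true) {x : ℕ} (hx : x < nP) :
    lk12 N x = lk12 A (lk12 B x) := by
  unfold chkMul at h
  rw [sapp_eq, sapp_eq, sapp_eq] at h
  have h1 := allB_true h hx
  rw [sapp_eq] at h1
  exact Nat.eq_of_beq_eq_true h1

/-- the check that two compositions of two tables agree. -/
def chkComp (A B C D : ℕ) : Bool :=
  sapp (fun A => sapp (fun B => sapp (fun C => sapp (fun D =>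
    allB (fun x => Nat.beq (sapp (lk12 A) (lk12 B x)) (sapp (lk12 C) (lk12 D x))) nP) D) C) B) A

theorem chkComp_true {A B C D : ℕ} (h : chkComp A B C D = true) {x : ℕ} (hx : x < nP) :
    lk12 A (lk12 B x) = lk12 C (lk12 D x) := by
  unfold chkComp at h
  rw [sapp_eq, sapp_eq, sapp_eq, sapp_eq] at h
  have h1 := allB_true h hx
  rw [sapp_eq, sapp_eq] at h1
  exact Nat.eq_of_beq_eq_true h1

/-- the check that a table is the identity. -/
def chkId (T : ℕ) : Bool := sapp (fun T => allB (fun x => Nat.beq (lk12 T x) x) nP) T

theorem chkId_true {T : ℕ} (h : chkId T = true) {x : ℕ} (hx : x < nP) : lk12 T x = x := by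
  unfold chkId at h
  rw [sapp_eq] at h
  exact Nat.eq_of_beq_eq_true (allB_true h hx)

/-- the check that a table is the table of a word. -/
def chkWord (w : List ℕ) (T : ℕ) : Bool :=
  sapp (fun T => allB (fun x => Nat.beq (evalF w x) (lk12 T x)) nP) T

theorem chkWord_true {w : List ℕ} {T : ℕ} (h : chkWord w T = true) {x : ℕ} (hx : x < nP) :
    evalF w x = lk12 T x := by
  unfold chkWord at h
  rw [sapp_eq] at h
  exact Nat.eq_of_beq_eq_true (allB_true h hx)

/-- the check that the letters of a word are letters. -/
def okLetters (w : List ℕ) : Bool := List.rec true (fun l _ ih => andB (Nat.ble l 6) ih) w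

theorem okLetters_true {w : List ℕ} (h : okLetters w = true) : ∀ l ∈ w, l < 7 := by
  induction w with
  | nil => intro l hl; exact absurd hl List.not_mem_nil
  | cons a w ih =>
    have h' : andB (Nat.ble a 6) (okLetters w) = true := h
    obtain ⟨h1, h2⟩ := andB_true h'
    intro l hl
    rcases List.mem_cons.mp hl with rfl | hl
    · exact Nat.lt_succ_of_le (Nat.le_of_ble_eq_true h1)
    · exact ih h2 l hl

/-- the permutation of the reversed word is the inverse. -/
theorem permW_cons (a : ℕ) (w : List ℕ) : permW (a :: w) = P a * permW w := rfl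

theorem permW_reverse (w : List ℕ) : permW w.reverse = (permW w)⁻¹ := by
  induction w with
  | nil =>
    change (1 : Equiv.Perm (Fin nP)) = 1⁻¹
    rw [inv_one]
  | cons a w ih =>
    have e2 : permW [a] = P a := mul_one (P a)
    rw [List.reverse_cons, permW_append, ih, e2, permW_cons, mul_inv_rev, P_inv]

theorem permW_val (w : List ℕ) (hw : ∀ l ∈ w, l < 7) (x : Fin nP) :
    (permW w x).val = evalF w x.val := by
  rw [permW_apply, evalF_eq w hw]

end Cfsg.Agent.Helper9.HeC
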