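import Mathlib
import Cfsg.Agent.Helper9.HeC.Perm
import Cfsg.Agent.Helper9.HeC.Data
import Cfsg.Agent.Helper9.He.Compat

set_option autoImplicit false
set_option Elab.async false

/-! 3825 different conjugates of the letter `d` that fix the first point, and the number of the
fixed points of the letter `d`. -/

namespace Cfsg.Agent.Helper9.HeC

open Cfsg.Agent.Helper9.J3 Cfsg.Agent.Helper9.He

/-- the word of a packed word. -/
def wordOf (c : ℕ) : List ℕ :=
  Nat.rec [] (fun j acc => Nat.land (Nat.shiftRight c (Nat.add 8 (Nat.mul 3 j))) 7 :: acc)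
    (Nat.land c 255)

/-- the word of the conjugating element of a number. -/
def cword (i : ℕ) : List ℕ := wordOf (lkF 96 79228162514264337593543950335 cwP i)

/-- the word of the conjugate of the letter `d` by a word. -/
def conjW (w : List ℕ) : List ℕ := w ++ 3 :: w.reverse

/-- the signature of a word. -/
def sigW (w : List ℕ) : ℕ :=
  Nat.add (evalF w cB1) (Nat.add (Nat.mul 4096 (evalF w cB2)) (Nat.mul 16777216 (evalF w cB3)))

/-- the check of the letters of a conjugating word and of the fixed point of the conjugate. -/
def clsP1 (i : ℕ) : Bool :=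
  andB (okLetters (cword i)) (Nat.beq (evalF (conjW (cword i)) 0) 0)

/-- the check that the signatures increase. -/
def clsP2 (i : ℕ) : Bool :=
  Nat.ble (Nat.succ (sigW (conjW (cword i)))) (sigW (conjW (cword (Nat.succ i))))

set_option maxRecDepth 1000000 in
theorem cls_b1_0 : allC clsP1 0 255 = true := by decide +kernel

set_option maxRecDepth 1000000 in
theorem cls_b1_1 : allC clsP1 1 255 = true := by decide +kernel

set_option maxRecDepth 1000000 in
theorem cls_b1_2 : allC clsP1 2 255 = true := by decide +kernel

set_option maxRecDepth 1000000 in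
theorem cls_b1_3 : allC clsP1 3 255 = true := by decide +kernel

set_option maxRecDepth 1000000 in
theorem cls_b1_4 : allC clsP1 4 255 = true := by decide +kernel

set_option maxRecDepth 1000000 in
theorem cls_b1_5 : allC clsP1 5 255 = true := by decide +kernel

set_option maxRecDepth 1000000 in
theorem cls_b1_6 : allC clsP1 6 255 = true := by decide +kernel

set_option maxRecDepth 1000000 in
theorem cls_b1_7 : allC clsP1 7 255 = true := by decide +kernel

set_option maxRecDepth 1000000 in
theorem cls_b1_8 : allC clsP1 8 255 = true := by decide +kernel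

set_option maxRecDepth 1000000 in
theorem cls_b1_9 : allC clsP1 9 255 = true := by decide +kernel

set_option maxRecDepth 1000000 in
theorem cls_b1_10 : allC clsP1 10 255 = true := by decide +kernel

set_option maxRecDepth 1000000 in
theorem cls_b1_11 : allC clsP1 11 255 = true := by decide +kernel

set_option maxRecDepth 1000000 in
theorem cls_b1_12 : allC clsP1 12 255 = true := by decide +kernel

set_option maxRecDepth 1000000 in
theorem cls_b1_13 : allC clsP1 13 255 = true := by decide +kernel

set_option maxRecDepth 1000000 in
theorem cls_b1_14 : allC clsP1 14 255 = true := by decide +kernel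

set_option maxRecDepth 1000000 in
theorem cls_b2_0 : allC clsP2 0 239 = true := by decide +kernel

set_option maxRecDepth 1000000 in
theorem cls_b2_1 : allC clsP2 1 239 = true := by decide +kernel

set_option maxRecDepth 1000000 in
theorem cls_b2_2 : allC clsP2 2 239 = true := by decide +kernel

set_option maxRecDepth 1000000 in
theorem cls_b2_3 : allC clsP2 3 239 = true := by decide +kernel

set_option maxRecDepth 1000000 in
theorem cls_b2_4 : allC clsP2 4 239 = true := by decide +kernel

set_option maxRecDepth 1000000 in
theorem cls_b2_5 : allC clsP2 5 239 = true := by decide +kernel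

set_option maxRecDepth 1000000 in
theorem cls_b2_6 : allC clsP2 6 239 = true := by decide +kernel

set_option maxRecDepth 1000000 in
theorem cls_b2_7 : allC clsP2 7 239 = true := by decide +kernel

set_option maxRecDepth 1000000 in
theorem cls_b2_8 : allC clsP2 8 239 = true := by decide +kernel

set_option maxRecDepth 1000000 in
theorem cls_b2_9 : allC clsP2 9 239 = true := by decide +kernel

set_option maxRecDepth 1000000 in
theorem cls_b2_10 : allC clsP2 10 239 = true := by decide +kernel

set_option maxRecDepth 1000000 in
theorem cls_b2_11 : allC clsP2 11 239 = true := by decide +kernel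

set_option maxRecDepth 1000000 in
theorem cls_b2_12 : allC clsP2 12 239 = true := by decide +kernel

set_option maxRecDepth 1000000 in
theorem cls_b2_13 : allC clsP2 13 239 = true := by decide +kernel

set_option maxRecDepth 1000000 in
theorem cls_b2_14 : allC clsP2 14 239 = true := by decide +kernel

set_option maxRecDepth 1000000 in
theorem cls_b2_15 : allC clsP2 15 239 = true := by decide +kernel

theorem cls_b1 {i : ℕ} (hi : i < 3825) : clsP1 i = true := by
  apply allC_true (c := 255) (K := 15) ?_ hi
  intro k hk
  interval_cases k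
  · exact cls_b1_0
  · exact cls_b1_1
  · exact cls_b1_2
  · exact cls_b1_3
  · exact cls_b1_4
  · exact cls_b1_5
  · exact cls_b1_6
  · exact cls_b1_7
  · exact cls_b1_8
  · exact cls_b1_9
  · exact cls_b1_10
  · exact cls_b1_11
  · exact cls_b1_12
  · exact cls_b1_13
  · exact cls_b1_14

theorem cls_b2 {i : ℕ} (hi : i < 3824) : clsP2 i = true := by
  apply allC_true (c := 239) (K := 16) ?_ hi
  intro k hk
  interval_cases k
  · exact cls_b2_0
  · exact cls_b2_1
  · exact cls_b2_2
  · exact cls_b2_3
  · exact cls_b2_4
  · exact cls_b2_5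
  · exact cls_b2_6
  · exact cls_b2_7
  · exact cls_b2_8
  · exact cls_b2_9
  · exact cls_b2_10
  · exact cls_b2_11
  · exact cls_b2_12
  · exact cls_b2_13
  · exact cls_b2_14
  · exact cls_b2_15

theorem conjW_letters {w : List ℕ} (hw : ∀ l ∈ w, l < 7) : ∀ l ∈ conjW w, l < 7 := by
  intro l hl
  unfold conjW at hl
  rcases List.mem_append.mp hl with h | h
  · exact hw l h
  · rcases List.mem_cons.mp h with rfl | h
    · norm_num
    · exact hw l (List.mem_reverse.mp h)

theorem permW_conjW (w : List ℕ) : permW (conjW w) = permW w * P 3 * (permW w)⁻¹ := by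
  unfold conjW
  rw [permW_append, permW_cons, permW_reverse, mul_assoc]

/-- the conjugates. -/
def cP (i : ℕ) : Equiv.Perm (Fin nP) := permW (conjW (cword i))

theorem cword_letters {i : ℕ} (hi : i < 3825) : ∀ l ∈ cword i, l < 7 :=
  okLetters_true (andB_true (cls_b1 hi)).1

theorem cP_zero {i : ℕ} (hi : i < 3825) : cP i (0 : Fin nP) = 0 := by
  apply Fin.ext
  unfold cP
  rw [permW_val _ (conjW_letters (cword_letters hi))]
  exact Nat.eq_of_beq_eq_true (andB_true (cls_b1 hi)).2

theorem cB_lt : cB1 < nP ∧ cB2 < nP ∧ cB3 < nP := by decide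

/-- the signature of a permutation. -/
def sigP (σ : Equiv.Perm (Fin nP)) : ℕ :=
  (σ ⟨cB1, cB_lt.1⟩).val + (4096 * (σ ⟨cB2, cB_lt.2.1⟩).val + 16777216 * (σ ⟨cB3, cB_lt.2.2⟩).val)

theorem sigP_cP {i : ℕ} (hi : i < 3825) : sigP (cP i) = sigW (conjW (cword i)) := by
  unfold sigP cP
  have h := conjW_letters (cword_letters hi)
  rw [permW_val _ h, permW_val _ h, permW_val _ h]
  rfl

theorem cP_inj : ∀ i < 3825, ∀ j < 3825, cP i = cP j → i = j := by
  intro i hi j hj h
  apply inj_of_step (f := fun i => sigW (conjW (cword i))) (m := 3825) ?_ hi hj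
  · rw [← sigP_cP hi, ← sigP_cP hj, h]
  · intro k hk
    have hk' : k < 3824 := by omega
    exact Nat.lt_of_succ_le (Nat.le_of_ble_eq_true (cls_b2 hk'))

/-! ### the fixed points -/

theorem sumF_range (f : ℕ → ℕ) (m : ℕ) : sumF f m = ∑ x ∈ Finset.range m, f x := by
  induction m with
  | zero => rfl
  | succ m ih => rw [sumF_succ, Finset.sum_range_succ, ih, add_comm]

theorem card_filter_fin (p : ℕ → Bool) (n : ℕ) :
    (Finset.univ.filter fun q : Fin n => p q.val = true).card =
      sumF (fun x => Bool.rec 0 1 (p x)) n := by
  rw [Finset.card_filter, sumF_range,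
    ← Fin.sum_univ_eq_sum_range (fun x => (Bool.rec 0 1 (p x) : ℕ)) n]
  apply Finset.sum_congr rfl
  intro q _
  cases p q.val <;> rfl

set_option maxRecDepth 1000000 in
theorem fix_b : allB (fun _ => Nat.beq (sumF (fun x => Bool.rec 0 1 (Nat.beq (tabF 3 x) x)) nP) 42)
    1 = true := by
  decide +kernel

theorem card_fix : (Finset.univ.filter fun q : Fin nP => P 3 q = q).card = 42 := by
  have h := card_filter_fin (fun x => Nat.beq (tabF 3 x) x) nP
  rw [Nat.eq_of_beq_eq_true (allB_true fix_b Nat.zero_lt_one)] at h
  rw [← h]
  apply congrArg Finset.card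
  apply Finset.filter_congr
  intro q _
  constructor
  · intro hq
    have h1 : tabF 3 q.val = q.val := by
      rw [← tab_of_lt (by norm_num : 3 < 7), ← P_apply, hq]
    rw [h1]
    exact Nat.beq_refl _
  · intro hq
    apply Fin.ext
    rw [P_apply, tab_of_lt (by norm_num : 3 < 7)]
    exact Nat.eq_of_beq_eq_true hq

end Cfsg.Agent.Helper9.HeC
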