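import Mathlib
import Cfsg.Agent.Helper9.HeC.Perm
import Cfsg.Agent.Helper9.HeC.TabK
import Cfsg.Agent.Helper9.C2A.Main

set_option autoImplicit false
set_option Elab.async false

/-! The images in the Held group of the 168 elements of the complement: their tables are
permutations and respect the table of successors. -/

namespace Cfsg.Agent.Helper9.HeC

open Cfsg.Agent.Helper9.J3 Cfsg.Agent.Helper9.He Cfsg.Agent.Helper9.C2A Cfsg.Agent.Helper9.Golay

/-- the table of the image of an element of the complement. -/
def tK (i x : ℕ) : ℕ := lk12 (nthL hcKL i) x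

/-- the check that a table is a permutation. -/
def permKP (i : ℕ) : Bool := chkPerm (nthL hcKL i)

/-- the check that the tables respect the successors. -/
def nextKP (i : ℕ) : Bool :=
  allB (fun k => chkMul (nthL hcKL (caK.nextOf i k)) (nthL hcKL i)
    (nthL hcKL (caK.nextOf caK.z k))) 2

set_option maxRecDepth 1000000 in
theorem permK_b_0 : allC permKP 0 42 = true := by decide +kernel

set_option maxRecDepth 1000000 in
theorem permK_b_1 : allC permKP 1 42 = true := by decide +kernel

set_option maxRecDepth 1000000 in
theorem permK_b_2 : allC permKP 2 42 = true := by decide +kernel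

set_option maxRecDepth 1000000 in
theorem permK_b_3 : allC permKP 3 42 = true := by decide +kernel

set_option maxRecDepth 1000000 in
theorem nextK_b_0 : allC nextKP 0 21 = true := by decide +kernel

set_option maxRecDepth 1000000 in
theorem nextK_b_1 : allC nextKP 1 21 = true := by decide +kernel

set_option maxRecDepth 1000000 in
theorem nextK_b_2 : allC nextKP 2 21 = true := by decide +kernel

set_option maxRecDepth 1000000 in
theorem nextK_b_3 : allC nextKP 3 21 = true := by decide +kernel

set_option maxRecDepth 1000000 in
theorem nextK_b_4 : allC nextKP 4 21 = true := by decide +kernel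

set_option maxRecDepth 1000000 in
theorem nextK_b_5 : allC nextKP 5 21 = true := by decide +kernel

set_option maxRecDepth 1000000 in
theorem nextK_b_6 : allC nextKP 6 21 = true := by decide +kernel

set_option maxRecDepth 1000000 in
theorem nextK_b_7 : allC nextKP 7 21 = true := by decide +kernel

set_option maxRecDepth 1000000 in
theorem idK_b : chkId (nthL hcKL caK.z) = true := by decide +kernel

theorem permK_b {i : ℕ} (hi : i < 168) : permKP i = true := by
  apply allC_true (c := 42) (K := 4) ?_ hi
  intro k hk
  interval_cases k
  · exact permK_b_0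
  · exact permK_b_1
  · exact permK_b_2
  · exact permK_b_3

theorem nextK_b {i : ℕ} (hi : i < 168) : nextKP i = true := by
  apply allC_true (c := 21) (K := 8) ?_ hi
  intro k hk
  interval_cases k
  · exact nextK_b_0
  · exact nextK_b_1
  · exact nextK_b_2
  · exact nextK_b_3
  · exact nextK_b_4
  · exact nextK_b_5
  · exact nextK_b_6
  · exact nextK_b_7

/-- the image of an element of the complement. -/
noncomputable def φK (i : ℕ) : Equiv.Perm (Fin nP) := permOf (tK i)

theorem φK_apply {i : ℕ} (hi : i < 168) (x : Fin nP) : (φK i x).val = tK i x.val :=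
  permOf_apply (chkPerm_true (permK_b hi)) x

theorem tK_lt {i : ℕ} (hi : i < 168) {x : ℕ} (hx : x < nP) : tK i x < nP :=
  (spec_of_mask (chkPerm_true (permK_b hi))).1 x hx

theorem caK_z_lt : caK.z < 168 := by decide

theorem φK_one : φK caK.z = 1 := by
  apply perm_ext
  intro x
  rw [φK_apply caK_z_lt]
  exact chkId_true idK_b x.isLt

theorem φK_next : ∀ i < caK.n, ∀ k < caK.gens.length,
    φK (caK.nextOf i k) = φK i * φK (caK.nextOf caK.z k) := by
  intro i hi k hk
  have hi' : i < 168 := hi
  have hk' : k < 2 := hk
  have h1 : caK.nextOf i k < 168 := (caK_good.next_facts hi hk).1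
  have h2 : caK.nextOf caK.z k < 168 := (caK_good.next_facts caK_good.z_facts.1 hk).1
  apply perm_ext
  intro x
  rw [Equiv.Perm.mul_apply, φK_apply h1, φK_apply hi', φK_apply h2]
  exact chkMul_true (allB_true (nextK_b hi') hk') x.isLt

end Cfsg.Agent.Helper9.HeC
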