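import Mathlib
import Cfsg.Agent.Helper9.HeC.Perm
import Cfsg.Agent.Helper9.HeC.TabQ
import Cfsg.Agent.Helper9.C2A.Main

set_option autoImplicit false
set_option Elab.async false

/-! The images in the Held group of the 128 elements of the normal subgroup: their tables are
permutations and respect the table of successors. -/

namespace Cfsg.Agent.Helper9.HeC

open Cfsg.Agent.Helper9.J3 Cfsg.Agent.Helper9.He Cfsg.Agent.Helper9.C2A Cfsg.Agent.Helper9.Golay

/-- the table of the image of an element of the normal subgroup. -/
def tQ (i x : ℕ) : ℕ := lk12 (nthL hcQL i) x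

/-- the check that a table is a permutation. -/
def permQP (i : ℕ) : Bool := chkPerm (nthL hcQL i)

/-- the check that the tables respect the successors. -/
def nextQP (i : ℕ) : Bool :=
  allB (fun k => chkMul (nthL hcQL (caQ.nextOf i k)) (nthL hcQL i)
    (nthL hcQL (caQ.nextOf caQ.z k))) 6

set_option maxRecDepth 1000000 in
theorem permQ_b_0 : allC permQP 0 32 = true := by decide +kernel

set_option maxRecDepth 1000000 in
theorem permQ_b_1 : allC permQP 1 32 = true := by decide +kernel

set_option maxRecDepth 1000000 in
theorem permQ_b_2 : allC permQP 2 32 = true := by decide +kernel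

set_option maxRecDepth 1000000 in
theorem permQ_b_3 : allC permQP 3 32 = true := by decide +kernel

set_option maxRecDepth 1000000 in
theorem nextQ_b_0 : allC nextQP 0 16 = true := by decide +kernel

set_option maxRecDepth 1000000 in
theorem nextQ_b_1 : allC nextQP 1 16 = true := by decide +kernel

set_option maxRecDepth 1000000 in
theorem nextQ_b_2 : allC nextQP 2 16 = true := by decide +kernel

set_option maxRecDepth 1000000 in
theorem nextQ_b_3 : allC nextQP 3 16 = true := by decide +kernel

set_option maxRecDepth 1000000 in
theorem nextQ_b_4 : allC nextQP 4 16 = true := by decide +kernel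

set_option maxRecDepth 1000000 in
theorem nextQ_b_5 : allC nextQP 5 16 = true := by decide +kernel

set_option maxRecDepth 1000000 in
theorem nextQ_b_6 : allC nextQP 6 16 = true := by decide +kernel

set_option maxRecDepth 1000000 in
theorem nextQ_b_7 : allC nextQP 7 16 = true := by decide +kernel

set_option maxRecDepth 1000000 in
theorem idQ_b : chkId (nthL hcQL caQ.z) = true := by decide +kernel

theorem permQ_b {i : ℕ} (hi : i < 128) : permQP i = true := by
  apply allC_true (c := 32) (K := 4) ?_ hi
  intro k hk
  interval_cases k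
  · exact permQ_b_0
  · exact permQ_b_1
  · exact permQ_b_2
  · exact permQ_b_3

theorem nextQ_b {i : ℕ} (hi : i < 128) : nextQP i = true := by
  apply allC_true (c := 16) (K := 8) ?_ hi
  intro k hk
  interval_cases k
  · exact nextQ_b_0
  · exact nextQ_b_1
  · exact nextQ_b_2
  · exact nextQ_b_3
  · exact nextQ_b_4
  · exact nextQ_b_5
  · exact nextQ_b_6
  · exact nextQ_b_7

/-- the image of an element of the normal subgroup. -/
noncomputable def φQ (i : ℕ) : Equiv.Perm (Fin nP) := permOf (tQ i)

theorem φQ_apply {i : ℕ} (hi : i < 128) (x : Fin nP) : (φQ i x).val = tQ i x.val :=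
  permOf_apply (chkPerm_true (permQ_b hi)) x

theorem tQ_lt {i : ℕ} (hi : i < 128) {x : ℕ} (hx : x < nP) : tQ i x < nP :=
  (spec_of_mask (chkPerm_true (permQ_b hi))).1 x hx

theorem caQ_z_lt : caQ.z < 128 := by decide

theorem φQ_one : φQ caQ.z = 1 := by
  apply perm_ext
  intro x
  rw [φQ_apply caQ_z_lt]
  exact chkId_true idQ_b x.isLt

theorem φQ_next : ∀ i < caQ.n, ∀ k < caQ.gens.length,
    φQ (caQ.nextOf i k) = φQ i * φQ (caQ.nextOf caQ.z k) := by
  intro i hi k hk
  have hi' : i < 128 := hi
  have hk' : k < 6 := hk
  have h1 : caQ.nextOf i k < 128 := (caQ_good.next_facts hi hk).1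
  have h2 : caQ.nextOf caQ.z k < 128 := (caQ_good.next_facts caQ_good.z_facts.1 hk).1
  apply perm_ext
  intro x
  rw [Equiv.Perm.mul_apply, φQ_apply h1, φQ_apply hi', φQ_apply h2]
  exact chkMul_true (allB_true (nextQ_b hi') hk') x.isLt

end Cfsg.Agent.Helper9.HeC
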