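import Mathlib
import Cfsg.Agent.Helper9.HeC.ChkQ
import Cfsg.Agent.Helper9.HeC.ChkK
import Cfsg.Agent.Helper9.HeC.Data
import Cfsg.Agent.Helper9.C2A.Iso5Data

set_option autoImplicit false
set_option Elab.async false

/-! The images of the eight generators lie in the Held group and commute with the letter `d`;
the images respect the conjugation, and the images of the normal subgroup and of the complement
have only the neutral element in common. -/

namespace Cfsg.Agent.Helper9.HeC

open Cfsg.Agent.Helper9.J3 Cfsg.Agent.Helper9.He Cfsg.Agent.Helper9.C2A Cfsg.Agent.Helper9.Golay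

/-- the subgroup of the elements of the group generated by the letters that commute with the
letter `d`. -/
def DHe : Subgroup (Equiv.Perm (Fin nP)) := HeP ⊓ Subgroup.centralizer ({P 3} : Set _)

set_option maxRecDepth 1000000 in
theorem commQ_b : allB (fun k => chkComp (nthL hcQL (caQ.nextOf caQ.z k)) (selP 3) (selP 3)
    (nthL hcQL (caQ.nextOf caQ.z k))) 6 = true := by decide +kernel

set_option maxRecDepth 1000000 in
theorem commK_b : allB (fun k => chkComp (nthL hcKL (caK.nextOf caK.z k)) (selP 3) (selP 3)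
    (nthL hcKL (caK.nextOf caK.z k))) 2 = true := by decide +kernel

/-- the check that a table is the table of a word, on a range of points. -/
def chkWordC (w : List ℕ) (T k : ℕ) : Bool :=
  sapp (fun T => allC (fun x => Nat.beq (evalF w x) (lk12 T x)) k 686) T

theorem chkWordC_true {w : List ℕ} {T : ℕ} (h : ∀ k, k < 3 → chkWordC w T k = true) {x : ℕ}
    (hx : x < nP) : evalF w x = lk12 T x := by
  have h' : ∀ k, k < 3 → allC (fun x => Nat.beq (evalF w x) (lk12 T x)) k 686 = true := by
    intro k hk
    have := h k hk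
    unfold chkWordC at this
    rw [sapp_eq] at this
    exact this
  exact Nat.eq_of_beq_eq_true (allC_true (c := 686) (K := 3) h' hx)

theorem wordG0_l : okLetters hcW0 = true := by decide +kernel

set_option maxRecDepth 1000000 in
theorem wordG0_b0 : chkWordC hcW0 (nthL hcQL (caQ.nextOf caQ.z 0)) 0 = true := by
  decide +kernel

set_option maxRecDepth 1000000 in
theorem wordG0_b1 : chkWordC hcW0 (nthL hcQL (caQ.nextOf caQ.z 0)) 1 = true := by
  decide +kernel

set_option maxRecDepth 1000000 in
theorem wordG0_b2 : chkWordC hcW0 (nthL hcQL (caQ.nextOf caQ.z 0)) 2 = true := by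
  decide +kernel

theorem wordG0_b : ∀ k, k < 3 → chkWordC hcW0 (nthL hcQL (caQ.nextOf caQ.z 0)) k = true := by
  intro k hk
  interval_cases k
  · exact wordG0_b0
  · exact wordG0_b1
  · exact wordG0_b2

theorem wordG1_l : okLetters hcW1 = true := by decide +kernel

set_option maxRecDepth 1000000 in
theorem wordG1_b0 : chkWordC hcW1 (nthL hcQL (caQ.nextOf caQ.z 1)) 0 = true := by
  decide +kernel

set_option maxRecDepth 1000000 in
theorem wordG1_b1 : chkWordC hcW1 (nthL hcQL (caQ.nextOf caQ.z 1)) 1 = true := by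
  decide +kernel

set_option maxRecDepth 1000000 in
theorem wordG1_b2 : chkWordC hcW1 (nthL hcQL (caQ.nextOf caQ.z 1)) 2 = true := by
  decide +kernel

theorem wordG1_b : ∀ k, k < 3 → chkWordC hcW1 (nthL hcQL (caQ.nextOf caQ.z 1)) k = true := by
  intro k hk
  interval_cases k
  · exact wordG1_b0
  · exact wordG1_b1
  · exact wordG1_b2

theorem wordG2_l : okLetters hcW2 = true := by decide +kernel

set_option maxRecDepth 1000000 in
theorem wordG2_b0 : chkWordC hcW2 (nthL hcQL (caQ.nextOf caQ.z 2)) 0 = true := by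
  decide +kernel

set_option maxRecDepth 1000000 in
theorem wordG2_b1 : chkWordC hcW2 (nthL hcQL (caQ.nextOf caQ.z 2)) 1 = true := by
  decide +kernel

set_option maxRecDepth 1000000 in
theorem wordG2_b2 : chkWordC hcW2 (nthL hcQL (caQ.nextOf caQ.z 2)) 2 = true := by
  decide +kernel

theorem wordG2_b : ∀ k, k < 3 → chkWordC hcW2 (nthL hcQL (caQ.nextOf caQ.z 2)) k = true := by
  intro k hk
  interval_cases k
  · exact wordG2_b0
  · exact wordG2_b1
  · exact wordG2_b2

theorem wordG3_l : okLetters hcW3 = true := by decide +kernel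

set_option maxRecDepth 1000000 in
theorem wordG3_b0 : chkWordC hcW3 (nthL hcQL (caQ.nextOf caQ.z 3)) 0 = true := by
  decide +kernel

set_option maxRecDepth 1000000 in
theorem wordG3_b1 : chkWordC hcW3 (nthL hcQL (caQ.nextOf caQ.z 3)) 1 = true := by
  decide +kernel

set_option maxRecDepth 1000000 in
theorem wordG3_b2 : chkWordC hcW3 (nthL hcQL (caQ.nextOf caQ.z 3)) 2 = true := by
  decide +kernel

theorem wordG3_b : ∀ k, k < 3 → chkWordC hcW3 (nthL hcQL (caQ.nextOf caQ.z 3)) k = true := by
  intro k hk
  interval_cases k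
  · exact wordG3_b0
  · exact wordG3_b1
  · exact wordG3_b2

theorem wordG4_l : okLetters hcW4 = true := by decide +kernel

set_option maxRecDepth 1000000 in
theorem wordG4_b0 : chkWordC hcW4 (nthL hcQL (caQ.nextOf caQ.z 4)) 0 = true := by
  decide +kernel

set_option maxRecDepth 1000000 in
theorem wordG4_b1 : chkWordC hcW4 (nthL hcQL (caQ.nextOf caQ.z 4)) 1 = true := by
  decide +kernel

set_option maxRecDepth 1000000 in
theorem wordG4_b2 : chkWordC hcW4 (nthL hcQL (caQ.nextOf caQ.z 4)) 2 = true := by
  decide +kernel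

theorem wordG4_b : ∀ k, k < 3 → chkWordC hcW4 (nthL hcQL (caQ.nextOf caQ.z 4)) k = true := by
  intro k hk
  interval_cases k
  · exact wordG4_b0
  · exact wordG4_b1
  · exact wordG4_b2

theorem wordG5_l : okLetters hcW5 = true := by decide +kernel

set_option maxRecDepth 1000000 in
theorem wordG5_b0 : chkWordC hcW5 (nthL hcQL (caQ.nextOf caQ.z 5)) 0 = true := by
  decide +kernel

set_option maxRecDepth 1000000 in
theorem wordG5_b1 : chkWordC hcW5 (nthL hcQL (caQ.nextOf caQ.z 5)) 1 = true := by
  decide +kernel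

set_option maxRecDepth 1000000 in
theorem wordG5_b2 : chkWordC hcW5 (nthL hcQL (caQ.nextOf caQ.z 5)) 2 = true := by
  decide +kernel

theorem wordG5_b : ∀ k, k < 3 → chkWordC hcW5 (nthL hcQL (caQ.nextOf caQ.z 5)) k = true := by
  intro k hk
  interval_cases k
  · exact wordG5_b0
  · exact wordG5_b1
  · exact wordG5_b2

theorem wordG6_l : okLetters hcW6 = true := by decide +kernel

set_option maxRecDepth 1000000 in
theorem wordG6_b0 : chkWordC hcW6 (nthL hcKL (caK.nextOf caK.z 0)) 0 = true := by
  decide +kernel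

set_option maxRecDepth 1000000 in
theorem wordG6_b1 : chkWordC hcW6 (nthL hcKL (caK.nextOf caK.z 0)) 1 = true := by
  decide +kernel

set_option maxRecDepth 1000000 in
theorem wordG6_b2 : chkWordC hcW6 (nthL hcKL (caK.nextOf caK.z 0)) 2 = true := by
  decide +kernel

theorem wordG6_b : ∀ k, k < 3 → chkWordC hcW6 (nthL hcKL (caK.nextOf caK.z 0)) k = true := by
  intro k hk
  interval_cases k
  · exact wordG6_b0
  · exact wordG6_b1
  · exact wordG6_b2

theorem wordG7_l : okLetters hcW7 = true := by decide +kernel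

set_option maxRecDepth 1000000 in
theorem wordG7_b0 : chkWordC hcW7 (nthL hcKL (caK.nextOf caK.z 1)) 0 = true := by
  decide +kernel

set_option maxRecDepth 1000000 in
theorem wordG7_b1 : chkWordC hcW7 (nthL hcKL (caK.nextOf caK.z 1)) 1 = true := by
  decide +kernel

set_option maxRecDepth 1000000 in
theorem wordG7_b2 : chkWordC hcW7 (nthL hcKL (caK.nextOf caK.z 1)) 2 = true := by
  decide +kernel

theorem wordG7_b : ∀ k, k < 3 → chkWordC hcW7 (nthL hcKL (caK.nextOf caK.z 1)) k = true := by
  intro k hk
  interval_cases k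
  · exact wordG7_b0
  · exact wordG7_b1
  · exact wordG7_b2

theorem mem_DHe_of {σ : Equiv.Perm (Fin nP)} {T : ℕ} {w : List ℕ}
    (hσ : ∀ x : Fin nP, (σ x).val = lk12 T x.val)
    (hw1 : okLetters w = true) (hw2 : ∀ k, k < 3 → chkWordC w T k = true)
    (hc : chkComp T (selP 3) (selP 3) T = true) : σ ∈ DHe := by
  constructor
  · have e : σ = permW w := by
      apply perm_ext
      intro x
      rw [hσ, permW_val w (okLetters_true hw1), chkWordC_true hw2 x.isLt]
    rw [e]
    exact permW_mem w
  · apply Subgroup.mem_centralizer_singleton_iff.mpr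
    apply perm_ext
    intro x
    rw [Equiv.Perm.mul_apply, Equiv.Perm.mul_apply, hσ, P_apply, P_apply, hσ,
      tab_of_lt (by norm_num), tab_of_lt (by norm_num)]
    exact chkComp_true hc x.isLt

theorem γQ_mem : ∀ k < caQ.gens.length, φQ (caQ.nextOf caQ.z k) ∈ DHe := by
  intro k hk
  have hk' : k < 6 := hk
  have h2 : caQ.nextOf caQ.z k < 128 := (caQ_good.next_facts caQ_good.z_facts.1 hk).1
  have hc := allB_true commQ_b hk'
  interval_cases k
  · exact mem_DHe_of (fun x => φQ_apply h2 x) wordG0_l wordG0_b hc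
  · exact mem_DHe_of (fun x => φQ_apply h2 x) wordG1_l wordG1_b hc
  · exact mem_DHe_of (fun x => φQ_apply h2 x) wordG2_l wordG2_b hc
  · exact mem_DHe_of (fun x => φQ_apply h2 x) wordG3_l wordG3_b hc
  · exact mem_DHe_of (fun x => φQ_apply h2 x) wordG4_l wordG4_b hc
  · exact mem_DHe_of (fun x => φQ_apply h2 x) wordG5_l wordG5_b hc

theorem γK_mem : ∀ k < caK.gens.length, φK (caK.nextOf caK.z k) ∈ DHe := by
  intro k hk
  have hk' : k < 2 := hk
  have h2 : caK.nextOf caK.z k < 168 := (caK_good.next_facts caK_good.z_facts.1 hk).1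
  have hc := allB_true commK_b hk'
  interval_cases k
  · exact mem_DHe_of (fun x => φK_apply h2 x) wordG6_l wordG6_b hc
  · exact mem_DHe_of (fun x => φK_apply h2 x) wordG7_l wordG7_b hc

set_option maxRecDepth 1000000 in
theorem trip_b : caTrip.all (fun e => chkComp (nthL hcQL e.2.2) (nthL hcKL e.1) (nthL hcKL e.1)
    (nthL hcQL e.2.1)) = true := by decide +kernel

theorem φ_trip : ∀ e ∈ caTrip, φQ e.2.2 * φK e.1 = φK e.1 * φQ e.2.1 := by
  intro e he
  obtain ⟨h1, h2, h3, -⟩ := ca_trip_ok e he
  have h1' : e.1 < 168 := h1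
  have h2' : e.2.1 < 128 := h2
  have h3' : e.2.2 < 128 := h3
  apply perm_ext
  intro x
  rw [Equiv.Perm.mul_apply, Equiv.Perm.mul_apply, φQ_apply h3', φK_apply h1', φK_apply h1',
    φQ_apply h2']
  exact chkComp_true (List.all_eq_true.mp trip_b e he) x.isLt

set_option maxRecDepth 1000000 in
theorem sig_b : allB (fun i => allB (fun j => orB (andB (Nat.beq i caQ.z) (Nat.beq j caK.z))
    (notB (andB (Nat.beq (tQ i sB1) (tK j sB1)) (Nat.beq (tQ i sB2) (tK j sB2))))) 168) 128 =
    true := by decide +kernel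

theorem φ_inj : ∀ i < caQ.n, ∀ j < caK.n, φQ i = φK j → i = caQ.z ∧ j = caK.z := by
  intro i hi j hj h
  have hi' : i < 128 := hi
  have hj' : j < 168 := hj
  have hb1 : sB1 < nP := by decide
  have hb2 : sB2 < nP := by decide
  have e1 : tQ i sB1 = tK j sB1 := by
    have := congrArg (fun σ : Equiv.Perm (Fin nP) => (σ ⟨sB1, hb1⟩).val) h
    simp only [φQ_apply hi', φK_apply hj'] at this
    exact this
  have e2 : tQ i sB2 = tK j sB2 := by
    have := congrArg (fun σ : Equiv.Perm (Fin nP) => (σ ⟨sB2, hb2⟩).val) h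
    simp only [φQ_apply hi', φK_apply hj'] at this
    exact this
  rcases orB_true (allB_true (allB_true sig_b hi') hj') with h1 | h1
  · obtain ⟨h2, h3⟩ := andB_true h1
    exact ⟨Nat.eq_of_beq_eq_true h2, Nat.eq_of_beq_eq_true h3⟩
  · have h2 := notB_true h1
    rw [e1, e2] at h2
    have h3 : andB (Nat.beq (tK j sB1) (tK j sB1)) (Nat.beq (tK j sB2) (tK j sB2)) = true := by
      rw [Nat.beq_refl, Nat.beq_refl]
      rfl
    rw [h2] at h3
    exact absurd h3 Bool.false_ne_true

end Cfsg.Agent.Helper9.HeC
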