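import Mathlib
import Cfsg.Prelude
import Cfsg.Agent.Helper9.HeC.Abs
import Cfsg.Agent.Helper9.HeC.ChkG
import Cfsg.Agent.Helper9.HeC.ChkC
import Cfsg.Agent.Helper9.C2A.HomGen
import Cfsg.Agent.Helper9.He.Final

set_option autoImplicit false

/-! The centralizer of the letter `d` in the Held group is isomorphic to the centralizer of a
transvection in the special linear group of degree five over the field of two elements. -/

namespace Cfsg.Agent.Helper9.HeC

open Cfsg.Agent.Helper9.J3 Cfsg.Agent.Helper9.He Cfsg.Agent.Helper9.C2A Cfsg.Agent.Helper9.Golay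
open Cfsg Cfsg.Spor MulAction

/-- the letter `d` as an element of the group on 2058 points. -/
def zP : ↥HeP := ⟨P 3, P_mem 3⟩

theorem card_cent_le (h : IsHe He) :
    Nat.card (Subgroup.centralizer ({zP} : Set ↥HeP)) ≤ 21504 := by
  have hcard : Nat.card ↥HeP = 4030387200 := (isHe_HeP h).2
  have key := card_centralizer_mul_le (G := ↥HeP) (Ω := Fin nP) zP 0 42 3825
    (le_of_eq card_fix) (fun i => ⟨cP i, permW_mem _⟩)
    (fun i _ => ⟨⟨permW (cword i), permW_mem _⟩, Subtype.ext (permW_conjW _)⟩)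
    (fun i hi => cP_zero hi)
    (fun i hi j hj hij => cP_inj i hi j hj (congrArg Subtype.val hij))
  rw [hcard, Fintype.card_fin] at key
  have e : (3825 * nP : ℕ) = 7871850 := by norm_num
  have e' : (4030387200 * 42 : ℕ) = 21504 * 7871850 := by norm_num
  rw [e, e'] at key
  exact Nat.le_of_mul_le_mul_right key (by norm_num)

theorem card_DHe_le (h : IsHe He) : Nat.card ↥DHe ≤ 21504 := by
  have e := Nat.card_congr (centralizerSubgroup HeP (P 3) (P_mem 3)).toEquiv
  unfold DHe
  rw [← e]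
  exact card_cent_le h

theorem iso_M24 (h : IsHe He) :
    Nonempty (↥(Subgroup.centralizer ({z0} : Set ↥M24)) ≃* ↥DHe) :=
  iso_of_maps DHe φQ (fun k => φQ (caQ.nextOf caQ.z k)) φK (fun k => φK (caK.nextOf caK.z k))
    φQ_one φQ_next φK_one φK_next φ_trip γQ_mem γK_mem φ_inj (card_DHe_le h)

theorem zP_ne_one : zP ≠ 1 := by
  intro h
  have h1 : P 3 = 1 := congrArg Subtype.val h
  have h2 := card_fix
  rw [h1] at h2
  simp at h2

theorem order_zP : orderOf zP = 2 := by
  apply orderOf_eq_prime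
  · apply Subtype.ext
    rw [sq]
    exact P_mul_self 3
  · exact zP_ne_one

theorem main (h : IsHe He) (s : Matrix.SpecialLinearGroup (Fin 5) (ZMod 2))
    (hs : (s : Matrix (Fin 5) (Fin 5) (ZMod 2)) = Matrix.transvection 0 1 1) :
    ∃ z : He, orderOf z = 2 ∧ Nonempty (↥(Subgroup.centralizer ({z} : Set He)) ≃*
      ↥(Subgroup.centralizer ({s} : Set (Matrix.SpecialLinearGroup (Fin 5) (ZMod 2))))) := by
  obtain ⟨e⟩ := HeP_iso h.1
  obtain ⟨e1⟩ := iso_M24 h
  obtain ⟨e2⟩ := iso5 s hs
  refine ⟨e.symm zP, ?_, ?_⟩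
  · rw [MulEquiv.orderOf_eq]
    exact order_zP
  · exact ⟨(((centralizerCongr e.symm zP).symm.trans
      (centralizerSubgroup HeP (P 3) (P_mem 3))).trans e1.symm).trans e2⟩

end Cfsg.Agent.Helper9.HeC
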